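import Groth.Agent.S5826

/-! Left inverses of formally left invertible maps into complete modules. -/

universe u v w
set_option autoImplicit false
set_option linter.style.haveILetI false

noncomputable section

namespace Groth.Agent.FLInv

theorem exists_leftInverse {A : Type u} {M : Type v} {N : Type w}
    [CommRing A] [TopologicalSpace A] [AddCommGroup M] [Module A M] [UniformSpace M] [IsUniformAddGroup M]
    [CompleteSpace M] [T2Space M] [AddCommGroup N] [Module A N]
    (𝔍 : ℕ → Ideal A) (h𝔍open : ∀ n, IsOpen (𝔍 n : Set A)) (h𝔍anti : Antitone 𝔍)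
    (h𝔍basis : (nhds (0 : A)).HasBasis (fun _ : ℕ => True) (fun n => (𝔍 n : Set A)))
    (hM : TopMod.IsDeduced A M) (u : M →ₗ[A] N)
    (hex : ∀ J : Ideal A, IsOpen (J : Set A) →
      ∃ w : N →ₗ[A] M ⧸ (J • ⊤ : Submodule A M), ∀ x : M, w (u x) = Submodule.Quotient.mk x)
    (hcoker : ∀ n, Module.Projective (A ⧸ 𝔍 n)
      ((N ⧸ LinearMap.range u) ⧸ (𝔍 n • (⊤ : Submodule A (N ⧸ LinearMap.range u))))) :
    ∃ w : N →ₗ[A] M, ∀ x : M, w (u x) = x := by
  classical
  let S : ℕ → Submodule A M := fun n => 𝔍 n • ⊤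
  have hS : Antitone S := fun a b hab => Submodule.smul_mono_left (h𝔍anti hab)
  have hker : ∀ {n} (f : N →ₗ[A] M ⧸ S n), ∀ r ∈ 𝔍 n, ∀ y, r • f y = 0 := fun {n} f r hr y => by
    obtain ⟨m, hm⟩ := Submodule.Quotient.mk_surjective _ (f y)
    rw [← hm, ← Submodule.Quotient.mk_smul, Submodule.Quotient.mk_eq_zero]
    exact Submodule.smul_mem_smul hr trivial
  have step : ∀ n (wn : N →ₗ[A] M ⧸ S n), (∀ x, wn (u x) = Submodule.Quotient.mk x) →
      ∃ wm : N →ₗ[A] M ⧸ S (n + 1), (∀ x, wm (u x) = Submodule.Quotient.mk x) ∧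
        ∀ y, Submodule.factor (hS n.le_succ) (wm y) = wn y := by
    intro n wn hwn
    obtain ⟨w', hw'⟩ := hex _ (h𝔍open (n + 1))
    let C := N ⧸ LinearMap.range u
    let Q : Submodule A C := 𝔍 (n + 1) • ⊤
    let R := A ⧸ 𝔍 (n + 1)
    haveI : Module.Projective R (C ⧸ Q) := hcoker (n + 1)
    let d : N →ₗ[A] M ⧸ S n := (Submodule.factor (hS n.le_succ)).comp w' - wn
    have hd : LinearMap.range u ≤ LinearMap.ker d := by
      rintro _ ⟨x, rfl⟩
      show Submodule.factor (hS n.le_succ) (w' (u x)) - wn (u x) = 0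
      rw [hw', hwn, sub_eq_zero]
      rfl
    let d1 : C →ₗ[A] M ⧸ S n := (LinearMap.range u).liftQ d hd
    have hd1 : Q ≤ LinearMap.ker d1 := Submodule.smul_le.mpr fun r hr c _ => by
      obtain ⟨y, rfl⟩ := Submodule.Quotient.mk_surjective _ c
      show d1 (r • Submodule.Quotient.mk y) = 0
      rw [map_smul]
      exact hker d r (h𝔍anti n.le_succ hr) y
    let d2 : C ⧸ Q →ₗ[A] M ⧸ S n := Q.liftQ d1 hd1
    letI : Module R (M ⧸ S n) := Module.IsTorsionBySet.module (fun x j => by
      obtain ⟨x, rfl⟩ := Submodule.Quotient.mk_surjective _ x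
      rw [← Submodule.Quotient.mk_smul, Submodule.Quotient.mk_eq_zero]
      exact Submodule.smul_mem_smul (h𝔍anti n.le_succ j.2) trivial)
    haveI : IsScalarTower A R (M ⧸ S n) := IsScalarTower.of_algebraMap_smul fun _ _ => rfl
    letI : Module R (M ⧸ S (n + 1)) := Module.IsTorsionBySet.module (fun x j => by
      obtain ⟨x, rfl⟩ := Submodule.Quotient.mk_surjective _ x
      rw [← Submodule.Quotient.mk_smul, Submodule.Quotient.mk_eq_zero]
      exact Submodule.smul_mem_smul j.2 trivial)
    haveI : IsScalarTower A R (M ⧸ S (n + 1)) := IsScalarTower.of_algebraMap_smul fun _ _ => rfl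
    have hsur : Function.Surjective (algebraMap A R) := Ideal.Quotient.mk_surjective
    obtain ⟨h, hh⟩ := Module.projective_lifting_property
      ((Submodule.factor (hS n.le_succ)).extendScalarsOfSurjective hsur)
      (d2.extendScalarsOfSurjective hsur) (Submodule.factor_surjective (hS n.le_succ))
    refine ⟨w' - ((h.restrictScalars A).comp Q.mkQ).comp (LinearMap.range u).mkQ,
      fun x => ?_, fun y => ?_⟩
    · have h0 : (LinearMap.range u).mkQ (u x) = 0 := (Submodule.Quotient.mk_eq_zero _).mpr ⟨x, rfl⟩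
      simp only [LinearMap.sub_apply, LinearMap.comp_apply, h0, map_zero, sub_zero, hw']
    · have h1 : Submodule.factor (hS n.le_succ) (h (Q.mkQ ((LinearMap.range u).mkQ y))) =
          Submodule.factor (hS n.le_succ) (w' y) - wn y := LinearMap.congr_fun hh _
      simp only [LinearMap.sub_apply, LinearMap.comp_apply, map_sub, LinearMap.restrictScalars_apply, h1]
      abel
  obtain ⟨w0, hw0⟩ := hex _ (h𝔍open 0)
  let seq : (n : ℕ) → {f : N →ₗ[A] M ⧸ S n // ∀ x, f (u x) = Submodule.Quotient.mk x} := fun n =>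
    Nat.rec ⟨w0, hw0⟩ (fun n f => ⟨(step n f.1 f.2).choose, (step n f.1 f.2).choose_spec.1⟩) n
  have hseq : ∀ n y, Submodule.factor (hS n.le_succ) ((seq (n + 1)).1 y) = (seq n).1 y :=
    fun n y => (step n (seq n).1 (seq n).2).choose_spec.2 y
  have hbasis : (nhds (0 : M)).HasBasis (fun _ : ℕ => True) (fun n => (S n : Set M)) :=
    hM.2.to_hasBasis
      (fun J hJ => by
        obtain ⟨n, -, hn⟩ := h𝔍basis.mem_iff.mp (hJ.mem_nhds J.zero_mem)
        exact ⟨n, trivial, Submodule.smul_mono_left hn⟩)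
      (fun n _ => ⟨𝔍 n, h𝔍open n, subset_rfl⟩)
  have hsep : ∀ m : M, (∀ n, m ∈ S n) → m = 0 := by
    intro m hm
    by_contra h
    obtain ⟨U, hU, hmU⟩ : ∃ U ∈ nhds (0 : M), m ∉ U :=
      ⟨{m}ᶜ, isOpen_compl_singleton.mem_nhds (Ne.symm h), fun hc => hc rfl⟩
    obtain ⟨n, -, hn⟩ := hbasis.mem_iff.mp hU
    exact hmU (hn (hm n))
  have key : ∀ y, ∃ m : M, ∀ n, Submodule.Quotient.mk m = (seq n).1 y := by
    intro y
    choose m hm using fun n => Submodule.Quotient.mk_surjective (S n) ((seq n).1 y)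
    have hdiff : ∀ n k, n ≤ k → m k - m n ∈ S n := by
      intro n k hnk
      induction k, hnk using Nat.le_induction with
      | base => rw [sub_self]; exact zero_mem _
      | succ k hnk ih =>
        have : m (k + 1) - m k ∈ S k := (Submodule.Quotient.eq _).mp (by
          rw [hm k, ← hseq k y, ← hm (k + 1)]; rfl)
        rw [← sub_add_sub_cancel _ (m k) (m n)]
        exact add_mem (hS hnk this) ih
    have hcauchy : CauchySeq m := by
      refine (hbasis.uniformity_of_nhds_zero).cauchySeq_iff.mpr fun n _ =>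
        ⟨n, fun a ha b hb => ?_⟩
      show m b - m a ∈ S n
      rw [← sub_sub_sub_cancel_right (m b) (m a) (m n)]
      exact sub_mem (hdiff n b hb) (hdiff n a ha)
    obtain ⟨l, hl⟩ := cauchySeq_tendsto_of_complete hcauchy
    refine ⟨l, fun n => ?_⟩
    rw [← hm n, Submodule.Quotient.eq]
    have hopen : IsOpen (S n : Set M) :=
      (S n).toAddSubgroup.isOpen_of_mem_nhds (hbasis.mem_of_mem trivial)
    have hclosed : IsClosed (S n : Set M) := AddSubgroup.isClosed_of_isOpen (S n).toAddSubgroup hopen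
    refine hclosed.mem_of_tendsto (hl.sub_const (m n)) ?_
    exact Filter.eventually_atTop.mpr ⟨n, fun k hk => hdiff n k hk⟩
  choose g hg using key
  have huniq : ∀ y (m : M), (∀ n, Submodule.Quotient.mk m = (seq n).1 y) → g y = m := fun y m hm =>
    sub_eq_zero.mp (hsep _ fun n => (Submodule.Quotient.eq _).mp ((hg y n).trans (hm n).symm))
  refine ⟨{ toFun := g, map_add' := fun a b => huniq _ _ fun n => by
              rw [map_add, ← hg, ← hg, Submodule.Quotient.mk_add]
            map_smul' := fun c a => huniq _ _ fun n => by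
              rw [RingHom.id_apply, map_smul, ← hg, Submodule.Quotient.mk_smul] }, fun x => ?_⟩
  exact huniq _ _ fun n => ((seq n).2 x).symm

theorem projective_coker {A : Type u} {M : Type v} {N : Type w} [CommRing A] [AddCommGroup M]
    [Module A M] [AddCommGroup N] [Module A N] (u : M →ₗ[A] N) (J : Ideal A)
    (w : N →ₗ[A] M ⧸ (J • ⊤ : Submodule A M)) (hw : ∀ x, w (u x) = Submodule.Quotient.mk x)
    [Module.Projective (A ⧸ J) (N ⧸ (J • (⊤ : Submodule A N)))] :
    Module.Projective (A ⧸ J) ((N ⧸ LinearMap.range u) ⧸ (J • (⊤ : Submodule A (N ⧸ LinearMap.range u)))) := by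
  let uJ : (M ⧸ (J • ⊤ : Submodule A M)) →ₗ[A] N ⧸ (J • ⊤ : Submodule A N) :=
    (J • ⊤ : Submodule A M).mapQ (J • ⊤) u (Submodule.smul_le.2 fun r hr x _ => by
      show u (r • x) ∈ (J • ⊤ : Submodule A N)
      rw [map_smul]
      exact Submodule.smul_mem_smul hr trivial)
  let e : N →ₗ[A] N ⧸ (J • ⊤ : Submodule A N) := (J • ⊤ : Submodule A N).mkQ - uJ.comp w
  have he : LinearMap.range u ≤ LinearMap.ker e := by
    rintro _ ⟨x, rfl⟩
    show Submodule.Quotient.mk (u x) - uJ (w (u x)) = 0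
    rw [hw]
    exact sub_self _
  let e1 := (LinearMap.range u).liftQ e he
  have he1 : (J • ⊤ : Submodule A (N ⧸ LinearMap.range u)) ≤ LinearMap.ker e1 :=
    Submodule.smul_le.mpr fun r hr c _ => by
      show e1 (r • c) = 0
      rw [map_smul]
      obtain ⟨z, hz⟩ := Submodule.Quotient.mk_surjective _ (e1 c)
      rw [← hz, ← Submodule.Quotient.mk_smul, Submodule.Quotient.mk_eq_zero]
      exact Submodule.smul_mem_smul hr trivial
  let i : ((N ⧸ LinearMap.range u) ⧸ (J • (⊤ : Submodule A (N ⧸ LinearMap.range u)))) →ₗ[A]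
      N ⧸ (J • ⊤ : Submodule A N) := (J • ⊤ : Submodule A (N ⧸ LinearMap.range u)).liftQ e1 he1
  let p : (N ⧸ (J • ⊤ : Submodule A N)) →ₗ[A]
      (N ⧸ LinearMap.range u) ⧸ (J • (⊤ : Submodule A (N ⧸ LinearMap.range u))) :=
    (J • ⊤ : Submodule A N).mapQ _ (LinearMap.range u).mkQ (Submodule.smul_le.2 fun r hr x _ => by
      show (LinearMap.range u).mkQ (r • x) ∈ (J • ⊤ : Submodule A (N ⧸ LinearMap.range u))
      rw [map_smul]
      exact Submodule.smul_mem_smul hr trivial)
  have hpi : ∀ c, p (i c) = c := by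
    intro c
    obtain ⟨c, rfl⟩ := Submodule.Quotient.mk_surjective _ c
    obtain ⟨y, rfl⟩ := Submodule.Quotient.mk_surjective _ c
    show p (Submodule.Quotient.mk y - uJ (w y)) = _
    obtain ⟨z, hz⟩ := Submodule.Quotient.mk_surjective _ (w y)
    rw [← hz, map_sub]
    show Submodule.Quotient.mk (Submodule.Quotient.mk y) -
      Submodule.Quotient.mk (Submodule.Quotient.mk (u z)) = _
    rw [(Submodule.Quotient.mk_eq_zero _).mpr (LinearMap.mem_range_self u z), Submodule.Quotient.mk_zero,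
      sub_zero]
  have hsur : Function.Surjective (algebraMap A (A ⧸ J)) := Ideal.Quotient.mk_surjective
  exact Module.Projective.of_split (i.extendScalarsOfSurjective hsur) (p.extendScalarsOfSurjective hsur)
    (LinearMap.ext hpi)

end Groth.Agent.FLInv
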